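import Mathlib.RingTheory.MvPolynomial.Ideal
import Mathlib.Data.Finset.Max
import Mathlib.LinearAlgebra.Pi

/-!
# Koszul chains on the variables of a polynomial ring, indexed by finite sets
-/

universe u

namespace Groth.Agent.Lib.KoszulChain62

variable {k : Type u} [CommRing k] {n : ℕ}

local notation "P" => MvPolynomial (Fin n) k

/-- The Koszul sign. -/
noncomputable def eps (v : Fin n) (S : Finset (Fin n)) : P := (-1) ^ (S.filter (· < v)).card

theorem eps_mul_eps (v : Fin n) (S : Finset (Fin n)) : eps (k := k) v S * eps v S = 1 := by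
  rw [eps, ← pow_add, ← two_mul, pow_mul, neg_one_sq, one_pow]

theorem eps_insert {u v : Fin n} {S : Finset (Fin n)} (hv : v ∉ S) :
    eps (k := k) u (insert v S) = (if v < u then -1 else 1) * eps u S := by
  rw [eps, eps, Finset.filter_insert]
  split_ifs with h
  · rw [Finset.card_insert_of_notMem (by simp [hv]), pow_succ']
  · rw [one_mul]

theorem eps_swap {u v : Fin n} {S : Finset (Fin n)} (hu : u ∉ S) (hv : v ∉ S) (hne : u ≠ v) :
    eps (k := k) v S * eps u (insert v S) = -(eps u S * eps v (insert u S)) := by
  rw [eps_insert hv, eps_insert hu]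
  rcases lt_or_gt_of_ne hne with h | h
  · rw [if_neg h.not_gt, if_pos h]; ring
  · rw [if_pos h, if_neg h.not_gt]; ring

variable {M : Type u} [AddCommGroup M] [Module (MvPolynomial (Fin n) k) M]
variable {N : Type u} [AddCommGroup N] [Module (MvPolynomial (Fin n) k) N]

variable (k M) in
/-- The Koszul differential. -/
noncomputable def bd : (Finset (Fin n) → M) →ₗ[P] (Finset (Fin n) → M) where
  toFun y S := ∑ v ∈ Sᶜ, (eps v S * MvPolynomial.X v : P) • y (insert v S)
  map_add' y z := by
    funext S; simp only [Pi.add_apply, smul_add, Finset.sum_add_distrib]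
  map_smul' c y := by
    funext S
    simp only [Pi.smul_apply, RingHom.id_apply, Finset.smul_sum, smul_smul, mul_comm c]

theorem bd_apply (y : Finset (Fin n) → M) (S : Finset (Fin n)) :
    bd k M y S = ∑ v ∈ Sᶜ, (eps v S * MvPolynomial.X v : P) • y (insert v S) := rfl

theorem bd_map (f : M →ₗ[P] N) (y : Finset (Fin n) → M) :
    bd k N (fun S => f (y S)) = fun S => f (bd k M y S) := by
  funext S; simp only [bd_apply, map_sum, map_smul]

theorem bd_bd (y : Finset (Fin n) → M) : bd k M (bd k M y) = 0 := by
  funext S
  simp only [bd_apply, Finset.smul_sum, smul_smul, Pi.zero_apply]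
  rw [Finset.sum_sigma']
  refine Finset.sum_involution (fun a _ => ⟨a.2, a.1⟩) ?_ ?_ ?_ fun a _ => rfl
  · rintro ⟨v, u⟩ h
    simp only [Finset.mem_sigma, Finset.mem_compl, Finset.mem_insert, not_or] at h
    have hsw := eps_swap (k := k) h.2.2 h.1 h.2.1
    simp only [Finset.insert_comm u v]
    rw [← add_smul, show eps v S * MvPolynomial.X v * (eps u (insert v S) * MvPolynomial.X u) =
      eps v S * eps u (insert v S) * (MvPolynomial.X v * MvPolynomial.X u : P) by ring, hsw]
    convert zero_smul P (y (insert v (insert u S))) using 2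
    ring
  · rintro ⟨v, u⟩ h _ he
    simp only [Finset.mem_sigma, Finset.mem_compl, Finset.mem_insert, not_or] at h
    exact h.2.1 (congrArg Sigma.fst he)
  · rintro ⟨v, u⟩ h
    simp only [Finset.mem_sigma, Finset.mem_compl, Finset.mem_insert, not_or] at h ⊢
    exact ⟨h.2.2, fun he => h.2.1 he.symm, h.1⟩

/-- Left multiplication of a family of chains by the basis vectors. -/
noncomputable def wedge (y : Fin n → Finset (Fin n) → M) (S : Finset (Fin n)) : M :=
  ∑ v ∈ S, eps (k := k) v (S.erase v) • y v (S.erase v)

/-- For a family of cycles, the combination with the variables is a boundary. -/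
theorem sum_smul_eq_bd_wedge (y : Fin n → Finset (Fin n) → M) (hy : ∀ v, bd k M (y v) = 0) :
    ∑ v, (MvPolynomial.X v : P) • y v = bd k M (wedge (k := k) y) := by
  funext S
  rw [Finset.sum_apply, ← Finset.sum_add_sum_compl S, bd_apply]
  simp only [wedge, Pi.smul_apply]
  have hstep : ∀ u ∈ Sᶜ, (eps u S * MvPolynomial.X u : P) •
      (∑ v ∈ insert u S, eps (k := k) v ((insert u S).erase v) • y v ((insert u S).erase v)) =
      (MvPolynomial.X u : P) • y u S + ∑ v ∈ S, (eps u S * MvPolynomial.X u *
        eps v ((insert u S).erase v) : P) • y v ((insert u S).erase v) := by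
    intro u hu
    rw [Finset.mem_compl] at hu
    rw [Finset.sum_insert hu, Finset.erase_insert hu, smul_add, Finset.smul_sum, smul_smul,
      mul_comm (eps u S) (MvPolynomial.X u), mul_assoc, eps_mul_eps, mul_one]
    simp only [smul_smul, mul_comm (MvPolynomial.X u : P) (eps u S)]
  rw [Finset.sum_congr rfl hstep, Finset.sum_add_distrib, add_comm]
  refine congrArg (∑ u ∈ Sᶜ, (MvPolynomial.X u : P) • y u S + ·) ?_
  rw [Finset.sum_comm]
  refine Finset.sum_congr rfl fun v hv => ?_
  have h0 := congrFun (hy v) (S.erase v)
  rw [bd_apply, Finset.compl_erase, Finset.sum_insert (by simpa using hv), Finset.insert_erase hv,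
    Pi.zero_apply, add_eq_zero_iff_eq_neg] at h0
  have h1 := congrArg (fun m => eps (k := k) v (S.erase v) • m) h0
  simp only [smul_smul, ← mul_assoc, eps_mul_eps, one_mul, smul_neg, Finset.smul_sum] at h1
  rw [h1, ← Finset.sum_neg_distrib]
  refine Finset.sum_congr rfl fun u hu => ?_
  rw [Finset.mem_compl] at hu
  have hne : u ≠ v := fun h => hu (h ▸ hv)
  have he : (insert u S).erase v = insert u (S.erase v) := Finset.erase_insert_of_ne hne
  have hsw := eps_swap (k := k) (Finset.notMem_erase v S)
    (show u ∉ S.erase v from fun h => hu (Finset.mem_of_mem_erase h)) hne.symm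
  rw [Finset.insert_erase hv] at hsw
  rw [he, ← neg_smul]
  refine congrArg (· • y v (insert u (S.erase v))) ?_
  rw [eps_insert (show u ∉ S.erase v from fun h => hu (Finset.mem_of_mem_erase h))] at hsw ⊢
  have hS : eps (k := k) u S = (if v < u then -1 else 1) * eps u (S.erase v) := by
    conv_lhs => rw [← Finset.insert_erase hv]
    exact eps_insert (Finset.notMem_erase v S)
  rw [hS]
  rcases lt_or_gt_of_ne hne with h | h
  · rw [if_pos h, if_neg h.not_gt]; ring
  · rw [if_neg h.not_gt, if_pos h]; ring

theorem X_mul_mem_imp [IsDomain k] {T : Set (Fin n)} {v : Fin n} (hv : v ∉ T) {a : P}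
    (h : MvPolynomial.X v * a ∈ Ideal.span (MvPolynomial.X '' T)) :
    a ∈ Ideal.span (MvPolynomial.X '' T) := by
  classical
  rw [MvPolynomial.mem_ideal_span_X_image] at h ⊢
  intro m hm
  obtain ⟨u, hu, hu'⟩ := h (Finsupp.single v 1 + m) (by
    rw [MvPolynomial.mem_support_iff, MvPolynomial.coeff_X_mul]
    exact MvPolynomial.mem_support_iff.mp hm)
  refine ⟨u, hu, ?_⟩
  rwa [Finsupp.add_apply, Finsupp.single_eq_of_ne (a := v) (fun h' : u = v => hv (h' ▸ hu)), zero_add] at hu'

/-- Exactness of the Koszul complex of a polynomial ring, on a subset of the variables. -/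
theorem exists_bd_eq [IsDomain k] : ∀ (T : Finset (Fin n)) (y : Finset (Fin n) → P),
    (∀ S, ¬ S ⊆ T → y S = 0) → bd k P y = 0 → y ∅ ∈ Ideal.span (MvPolynomial.X '' (T : Set (Fin n))) →
    ∃ η : Finset (Fin n) → P, η ∅ = 0 ∧ (∀ S, ¬ S ⊆ T → η S = 0) ∧ bd k P η = y := by
  intro T
  induction T using Finset.induction_on_max with
  | empty =>
    intro y hy _ h0
    refine ⟨0, rfl, fun _ _ => rfl, ?_⟩
    funext S
    rw [map_zero, Pi.zero_apply]
    by_cases hS : S ⊆ ∅
    · rw [Finset.subset_empty.mp hS]
      rw [Finset.coe_empty, Set.image_empty, Ideal.span_empty, Ideal.mem_bot] at h0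
      exact h0.symm
    · exact (hy S hS).symm
  | insert v T hvT ih =>
    intro y hy hcyc h0
    have hv : v ∉ T := fun h => lt_irrefl v (hvT v h)
    have heps : ∀ u ∈ T, ∀ S, v ∉ S → eps (k := k) u (insert v S) = eps u S := fun u hu S hS => by
      rw [eps_insert hS, if_neg (hvT u hu).not_gt, one_mul]
    -- the two halves
    let a : Finset (Fin n) → P := fun S => if S ⊆ T then y S else 0
    let b : Finset (Fin n) → P := fun S => if S ⊆ T then y (insert v S) else 0
    have hins : ∀ {u : Fin n} {S : Finset (Fin n)}, S ⊆ T → u ∈ insert v T → u ≠ v →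
        insert u S ⊆ T := fun hS hu hne => Finset.insert_subset
      ((Finset.mem_insert.mp hu).resolve_left hne) hS
    have hbd : ∀ (w : Finset (Fin n) → P), (∀ S, ¬ S ⊆ insert v T → w S = 0) → ∀ S, S ⊆ T →
        bd k P w S = bd k P (fun S' => if S' ⊆ T then w S' else 0) S +
          (eps v S * MvPolynomial.X v : P) • w (insert v S) ∧
        bd k P w (insert v S) = bd k P (fun S' => if S' ⊆ T then w (insert v S') else 0) S := by
      intro w hw S hS
      have hvS : v ∉ S := fun h => hv (hS h)
      constructor
      · simp only [bd_apply]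
        rw [← Finset.sum_erase_add _ _ (Finset.mem_compl.mpr hvS),
          ← Finset.sum_erase_add _ _ (Finset.mem_compl.mpr hvS)]
        rw [if_neg (fun h => hv (h (Finset.mem_insert_self v S))), smul_zero, add_zero]
        refine congrArg (· + _) (Finset.sum_congr rfl fun u hu => ?_)
        rw [Finset.mem_erase] at hu
        by_cases huT : u ∈ T
        · rw [if_pos (Finset.insert_subset huT hS)]
        · rw [if_neg fun h => huT (h (Finset.mem_insert_self u S)), hw _ fun h =>
            huT ((Finset.mem_insert.mp (h (Finset.mem_insert_self u S))).resolve_left hu.1)]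
      · simp only [bd_apply]
        rw [Finset.compl_insert, ← Finset.sum_erase_add Sᶜ _ (Finset.mem_compl.mpr hvS)]
        have hz : (if insert v S ⊆ T then w (insert v (insert v S)) else 0) = 0 :=
          if_neg fun h => hv (h (Finset.mem_insert_self v S))
        rw [hz, smul_zero, add_zero]
        refine Finset.sum_congr rfl fun u hu => ?_
        rw [Finset.mem_erase] at hu
        rw [Finset.insert_comm u v]
        by_cases huT : u ∈ T
        · rw [if_pos (Finset.insert_subset huT hS), heps u huT S hvS]
        · rw [if_neg fun h => huT (h (Finset.mem_insert_self u S)), smul_zero, hw _ fun h =>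
            huT ((Finset.mem_insert.mp (h (Finset.mem_insert.mpr
              (Or.inr (Finset.mem_insert_self u S))))).resolve_left hu.1), smul_zero]
    have hsupp : ∀ (g : Finset (Fin n) → P), (∀ S, ¬ S ⊆ T → g S = 0) →
        ∀ S, ¬ S ⊆ T → bd k P g S = 0 := by
      intro g hg S hS
      rw [bd_apply]
      refine Finset.sum_eq_zero fun u _ => ?_
      rw [hg _ fun h => hS ((Finset.subset_insert u S).trans h), smul_zero]
    have hb0 : bd k P b = 0 := by
      funext S
      by_cases hS : S ⊆ T
      · rw [← (hbd y hy S hS).2, hcyc]; rfl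
      · exact hsupp b (fun S hS => if_neg hS) S hS
    have hmemT : ∀ g : Finset (Fin n) → P, (∀ S, ¬ S ⊆ T → g S = 0) →
        bd k P g ∅ ∈ Ideal.span (MvPolynomial.X '' (T : Set (Fin n))) := by
      intro g hg
      rw [bd_apply]
      refine Ideal.sum_mem _ fun u _ => ?_
      by_cases huT : u ∈ T
      · rw [smul_eq_mul]
        exact Ideal.mul_mem_right _ _ (Ideal.mul_mem_left _ _
          (Ideal.subset_span ⟨u, huT, rfl⟩))
      · rw [hg _ (by simpa using huT), smul_zero]; exact zero_mem _
    have hb : b ∅ ∈ Ideal.span (MvPolynomial.X '' (T : Set (Fin n))) := by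
      have h1 := (hbd y hy ∅ (Finset.empty_subset _)).1
      rw [hcyc, Pi.zero_apply, eq_comm, add_eq_zero_iff_eq_neg] at h1
      have h2 := hmemT a (fun S hS => if_neg hS)
      rw [h1, neg_mem_iff, smul_eq_mul, eps] at h2
      simp only [Finset.filter_empty, Finset.card_empty, pow_zero, one_mul] at h2
      simpa [b] using X_mul_mem_imp (by simpa using hv) h2
    obtain ⟨c, hc0, hcT, hbc⟩ := ih b (fun S hS => if_neg hS) hb0 hb
    let a' : Finset (Fin n) → P := fun S => a S - (eps v S * MvPolynomial.X v : P) * c S
    have ha'T : ∀ S, ¬ S ⊆ T → a' S = 0 := fun S hS => by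
      simp only [a', a, if_neg hS, hcT S hS, mul_zero, sub_zero]
    have ha'0 : bd k P a' = 0 := by
      funext S
      by_cases hS : S ⊆ T
      · have h1 := (hbd y hy S hS).1
        rw [hcyc, Pi.zero_apply] at h1
        rw [Pi.zero_apply, h1]
        change bd k P a' S = bd k P a S + _
        have : bd k P a' S = bd k P a S -
            bd k P (fun S' => (eps v S' * MvPolynomial.X v : P) * c S') S := by
          rw [show a' = a - (fun S' => (eps v S' * MvPolynomial.X v : P) * c S') from rfl, map_sub]
          rfl
        rw [this, sub_eq_add_neg]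
        refine congrArg (bd k P a S + ·) ?_
        have hy' : y (insert v S) = bd k P c S := by rw [hbc]; exact (if_pos hS).symm
        rw [hy', bd_apply, bd_apply, Finset.smul_sum, ← Finset.sum_neg_distrib]
        refine Finset.sum_congr rfl fun u hu => ?_
        rw [Finset.mem_compl] at hu
        by_cases huT : u ∈ T
        · have h2 : eps (k := k) v (insert u S) = -eps v S := by
            rw [eps_insert hu, if_pos (hvT u huT), neg_one_mul]
          simp only [smul_eq_mul, h2]
          ring
        · rw [hcT _ fun h => huT (h (Finset.mem_insert_self u S))]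
          simp
      · exact hsupp a' ha'T S hS
    obtain ⟨p₀, hp₀, q₀, hq₀, hpq⟩ := Submodule.mem_sup.mp (show y ∅ ∈
        Ideal.span (MvPolynomial.X '' (T : Set (Fin n))) ⊔ Ideal.span {MvPolynomial.X v} by
      rwa [← Ideal.span_union, Set.union_comm, Set.singleton_union, ← Set.image_insert_eq,
        ← Finset.coe_insert])
    obtain ⟨r₀, rfl⟩ := Ideal.mem_span_singleton'.mp hq₀
    let δ : Finset (Fin n) → P := Pi.single ∅ r₀
    let c' : Finset (Fin n) → P := c + δ
    have hδ : ∀ S, S ≠ ∅ → δ S = 0 := fun S hS => Pi.single_eq_of_ne hS _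
    have hδbd : bd k P δ = 0 := by
      funext S
      rw [bd_apply]
      exact Finset.sum_eq_zero fun u _ => by rw [hδ _ (Finset.insert_ne_empty u S), smul_zero]
    have hc'T : ∀ S, ¬ S ⊆ T → c' S = 0 := fun S hS => by
      show c S + δ S = 0
      rw [hcT S hS, hδ S fun h => hS (h ▸ Finset.empty_subset T), add_zero]
    let a'' : Finset (Fin n) → P := fun S => a S - (eps v S * MvPolynomial.X v : P) * c' S
    have ha''0 : bd k P a'' = 0 := by
      have h1 : a'' = a' - (fun S => (eps v S * MvPolynomial.X v : P) * δ S) := by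
        funext S
        show _ - _ * (c S + δ S) = (a S - _) - _
        ring
      rw [h1, map_sub, ha'0, zero_sub, neg_eq_zero]
      funext S
      rw [bd_apply]
      exact Finset.sum_eq_zero fun u _ => by
        rw [hδ _ (Finset.insert_ne_empty u S), mul_zero, smul_zero]
    have ha''T : ∀ S, ¬ S ⊆ T → a'' S = 0 := fun S hS => by
      simp only [a'', a, if_neg hS, hc'T S hS, mul_zero, sub_zero]
    have ha''m : a'' ∅ ∈ Ideal.span (MvPolynomial.X '' (T : Set (Fin n))) := by
      have : a'' ∅ = p₀ := by
        show a ∅ - _ * (c ∅ + δ ∅) = p₀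
        simp [a, δ, hc0, eps, ← hpq, mul_comm r₀]
      rwa [this]
    obtain ⟨α, hα0, hαT, hαbd⟩ := ih a'' ha''T ha''0 ha''m
    refine ⟨fun S => if v ∈ S then c' (S.erase v) else α S, by simp [hα0], fun S hS => ?_, ?_⟩
    · dsimp only
      split_ifs with h
      · exact hc'T _ fun h' => hS (fun x hx => by
          rcases eq_or_ne x v with rfl | hne
          · exact Finset.mem_insert_self _ _
          · exact Finset.mem_insert_of_mem (h' (Finset.mem_erase.mpr ⟨hne, hx⟩)))
      · exact hαT _ fun h' => hS (h'.trans (Finset.subset_insert v T))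
    · have hηT : ∀ S, ¬ S ⊆ insert v T →
          (fun S : Finset (Fin n) => if v ∈ S then c' (S.erase v) else α S) S = 0 := fun S hS => by
        dsimp only
        split_ifs with h
        · exact hc'T _ fun h' => hS (fun x hx => by
            rcases eq_or_ne x v with rfl | hne
            · exact Finset.mem_insert_self _ _
            · exact Finset.mem_insert_of_mem (h' (Finset.mem_erase.mpr ⟨hne, hx⟩)))
        · exact hαT _ fun h' => hS (h'.trans (Finset.subset_insert v T))
      have e1 : (fun S' : Finset (Fin n) => if S' ⊆ T then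
          (if v ∈ S' then c' (S'.erase v) else α S') else 0) = α := by
        funext S
        by_cases hS : S ⊆ T
        · rw [if_pos hS, if_neg fun h => hv (hS h)]
        · rw [if_neg hS, hαT S hS]
      have e2 : (fun S' : Finset (Fin n) => if S' ⊆ T then
          (if v ∈ insert v S' then c' ((insert v S').erase v) else α (insert v S')) else 0) = c' := by
        funext S
        by_cases hS : S ⊆ T
        · rw [if_pos hS, if_pos (Finset.mem_insert_self v S),
            Finset.erase_insert fun h => hv (hS h)]
        · rw [if_neg hS, hc'T S hS]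
      have hbc' : bd k P c' = b := by rw [show c' = c + δ from rfl, map_add, hbc, hδbd, add_zero]
      funext S
      by_cases hvS : v ∈ S
      · obtain ⟨S', hS', rfl⟩ : ∃ S', v ∉ S' ∧ insert v S' = S :=
          ⟨S.erase v, Finset.notMem_erase v S, Finset.insert_erase hvS⟩
        by_cases hT : S' ⊆ T
        · rw [(hbd _ hηT S' hT).2, e2, hbc']
          exact if_pos hT
        · have hn : ¬ insert v S' ⊆ insert v T := fun h => hT fun x hx =>
            (Finset.mem_insert.mp (h (Finset.mem_insert_of_mem hx))).resolve_left fun hxv =>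
              hS' (hxv ▸ hx)
          rw [hy _ hn, bd_apply]
          refine Finset.sum_eq_zero fun u _ => ?_
          exact smul_eq_zero_of_right _ (hηT _ fun h => hn ((Finset.subset_insert u _).trans h))
      · by_cases hT : S ⊆ T
        · rw [(hbd _ hηT S hT).1, e1, hαbd, if_pos (Finset.mem_insert_self v S),
            Finset.erase_insert hvS, smul_eq_mul]
          show a S - _ + _ = _
          rw [sub_add_cancel]
          exact if_pos hT
        · have hn : ¬ S ⊆ insert v T := fun h => hT fun x hx =>
            (Finset.mem_insert.mp (h hx)).resolve_left fun hxv => hvS (hxv ▸ hx)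
          rw [hy _ hn, bd_apply]
          refine Finset.sum_eq_zero fun u _ => ?_
          exact smul_eq_zero_of_right _ (hηT _ fun h => hn ((Finset.subset_insert u _).trans h))

end Groth.Agent.Lib.KoszulChain62
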